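import Groth.Agent.Lib.FppfGm.Amitsur
import Mathlib.RingTheory.Smooth.Basic

/-!
# The algebra classifying unit cochains with a prescribed coboundary
-/

set_option autoImplicit false

universe u

open TensorProduct

noncomputable section

namespace Groth.Agent.Lib.FppfGm.Classify

open Groth.Agent.Lib.FppfGm.Amitsur

variable {R B : Type u} [CommRing R] [CommRing B] [Algebra R B]

/-- A finite dual basis. -/
structure DualBasis (R B : Type u) [CommRing R] [CommRing B] [Algebra R B] (ι : Type u) [Fintype ι]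
    where
  /-- generators -/
  b : ι → B
  /-- the coordinate forms -/
  f : ι → B →ₗ[R] R
  spec : ∀ x : B, ∑ i, f i x • b i = x

variable {ι : Type u} [Fintype ι] (bB : DualBasis R B ι)
  {C D : Type u} [CommRing C] [CommRing D] [Algebra R C] [Algebra R D]

/-- Indices of coordinates. -/
abbrev Idx (ι : Type u) : ℕ → Type u
  | 0 => PUnit
  | n + 1 => ι × Idx ι n

instance instFiniteIdx {ι : Type u} [Finite ι] : ∀ n, Finite (Idx ι n)
  | 0 => inferInstanceAs (Finite PUnit)
  | n + 1 => have := instFiniteIdx (ι := ι) n; inferInstanceAs (Finite (ι × Idx ι n))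

variable (C) in
/-- The coordinates. -/
def coord : (n : ℕ) → (Pw R B C n →+ (Idx ι n → C))
  | 0 => AddMonoidHom.mk' (fun x _ => x) fun _ _ => rfl
  | n + 1 => AddMonoidHom.mk' (fun x j => coord n (hc C (bB.f j.1) n x) j.2) fun x y => by
      funext j
      rw [map_add, map_add]
      rfl

theorem coord_mapP (f : C →ₐ[R] D) : ∀ (n : ℕ) (x : Pw R B C n) (j : Idx ι n),
    coord bB D n (mapP B f n x) j = f (coord bB C n x j)
  | 0, _, _ => rfl
  | n + 1, x, j => by
    change coord bB D n (hc D (bB.f j.1) n (mapP B f (n + 1) x)) j.2 =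
      f (coord bB C n (hc C (bB.f j.1) n x) j.2)
    rw [← mapP_hc, coord_mapP f n]

theorem sum_hc (n : ℕ) (x : Pw R B C (n + 1)) :
    ∑ i, bB.b i ⊗ₜ[R] hc C (bB.f i) n x = x := by
  induction x using TensorProduct.induction_on with
  | zero => simp only [map_zero, TensorProduct.tmul_zero, Finset.sum_const_zero]
  | tmul b y =>
    refine Eq.trans (Finset.sum_congr rfl fun i _ => ?_)
      ((TensorProduct.sum_tmul _ _ _).symm.trans (congrArg (· ⊗ₜ[R] y) (bB.spec b)))
    exact (TensorProduct.smul_tmul _ _ _).symm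
  | add x y hx hy =>
    simp only [map_add, TensorProduct.tmul_add, Finset.sum_add_distrib, hx, hy]

variable (C) in
/-- The cochain with given coordinates. -/
def mk : (n : ℕ) → (Idx ι n → C) → Pw R B C n
  | 0, y => y PUnit.unit
  | n + 1, y => ∑ i, bB.b i ⊗ₜ[R] mk n fun j => y (i, j)

theorem mk_coord : ∀ (n : ℕ) (x : Pw R B C n), mk bB C n (coord bB C n x) = x
  | 0, _ => rfl
  | n + 1, x => (Finset.sum_congr rfl fun i _ =>
      congrArg (bB.b i ⊗ₜ[R] ·) (mk_coord n (hc C (bB.f i) n x))).trans (sum_hc bB n x)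

theorem mapP_mk (f : C →ₐ[R] D) : ∀ (n : ℕ) (y : Idx ι n → C),
    mapP B f n (mk bB C n y) = mk bB D n (f ∘ y)
  | 0, _ => rfl
  | n + 1, y => by
    refine (map_sum (mapP B f (n + 1)) _ _).trans (Finset.sum_congr rfl fun i _ => ?_)
    refine (Algebra.TensorProduct.map_tmul (AlgHom.id R B) (mapP B f n) _ _).trans ?_
    rw [mapP_mk f n]
    rfl

theorem eq_of_coord {n : ℕ} {x y : Pw R B C n} (h : ∀ j, coord bB C n x j = coord bB C n y j) :
    x = y := by
  rw [← mk_coord bB n x, ← mk_coord bB n y, funext h]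

/-- The underlying element of a unit cochain. -/
def val {m : ℕ} (x : U R B C m) : Pw R B C m :=
  ((Additive.toMul x : (Pw R B C m)ˣ) : (Pw R B C m : Type u))

/-- The underlying element of the inverse of a unit cochain. -/
def ival {m : ℕ} (x : U R B C m) : Pw R B C m :=
  (((Additive.toMul x : (Pw R B C m)ˣ)⁻¹ : (Pw R B C m)ˣ) : (Pw R B C m : Type u))

theorem val_injective {m : ℕ} {x y : U R B C m} (h : val x = val y) : x = y :=
  Additive.toMul.injective (Units.ext h)

theorem val_mul_ival {m : ℕ} (x : U R B C m) : val x * ival x = 1 :=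
  Units.mul_inv _

theorem val_um (f : C →ₐ[R] D) {m : ℕ} (x : U R B C m) :
    val (um R (mapP B f m) x) = mapP B f m (val x) :=
  rfl

theorem ival_um (f : C →ₐ[R] D) {m : ℕ} (x : U R B C m) :
    ival (um R (mapP B f m) x) = mapP B f m (ival x) :=
  rfl

/-- The ideal of the coordinates. -/
def coordIdeal {m : ℕ} (v : Pw R B C m) : Ideal C := Ideal.span (Set.range (coord bB C m v))

theorem mapP_mk_coordIdeal {m : ℕ} (v : Pw R B C m) :
    mapP B (Ideal.Quotient.mkₐ R (coordIdeal bB v)) m v = 0 := by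
  refine eq_of_coord bB fun j => ?_
  rw [coord_mapP, map_zero]
  exact Ideal.Quotient.eq_zero_iff_mem.2 (Ideal.subset_span ⟨j, rfl⟩)

theorem coordIdeal_le {m : ℕ} (v : Pw R B C m) (g : C →ₐ[R] D) (h : mapP B g m v = 0) :
    ∀ a ∈ coordIdeal bB v, g a = 0 := fun a ha => by
  refine (Ideal.span_le.2 ?_ : coordIdeal bB v ≤ RingHom.ker g) ha
  rintro _ ⟨j, rfl⟩
  rw [SetLike.mem_coe, RingHom.mem_ker, ← coord_mapP, h, map_zero]
  rfl

theorem mapP_sub_eq_zero {m : ℕ} (x y : U R B C m) (g : C →ₐ[R] D)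
    (h : um R (mapP B g m) x = um R (mapP B g m) y) : mapP B g m (val x - val y) = 0 := by
  rw [map_sub, sub_eq_zero, ← val_um, ← val_um, h]

theorem um_eq_of_mapP_sub {m : ℕ} (x y : U R B C m) (g : C →ₐ[R] D)
    (h : mapP B g m (val x - val y) = 0) : um R (mapP B g m) x = um R (mapP B g m) y := by
  rw [map_sub, sub_eq_zero, ← val_um, ← val_um] at h
  exact val_injective h

theorem exists_unit {m : ℕ} (p q : Pw R B C m) (h : p * q = 1) :
    ∃ b : U R B C m, val b = p ∧ ival b = q :=
  ⟨Additive.ofMul ⟨p, q, h, (mul_comm _ _).trans h⟩, rfl, rfl⟩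

section universal

variable (n : ℕ)

/-- Polynomials in the coordinates of a cochain and of its inverse. -/
abbrev S : Type u := MvPolynomial (Idx ι n ⊕ Idx ι n) R

include bB in
theorem exists_invertible : ∃ (A : Type u) (_ : CommRing A) (_ : Algebra R A) (b₁ : U R B A n),
    Algebra.FinitePresentation R A ∧
      (∀ {A' : Type u} [CommRing A'] [Algebra R A'] (b : U R B A' n),
        ∃ g : A →ₐ[R] A', um R (mapP B g n) b₁ = b) ∧
      ∀ {A' : Type u} [CommRing A'] [Algebra R A'] (g g' : A →ₐ[R] A'),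
        um R (mapP B g n) b₁ = um R (mapP B g' n) b₁ → g = g' := by
  let T := S (R := R) (ι := ι) n
  let X := mk bB T n fun j => MvPolynomial.X (Sum.inl j)
  let Y := mk bB T n fun j => MvPolynomial.X (Sum.inr j)
  let J : Ideal T := coordIdeal bB (X * Y - 1) ⊔
    (Ideal.span (Set.range fun j => MvPolynomial.X (Sum.inl j) - coord bB T n X j) ⊔
      Ideal.span (Set.range fun j => MvPolynomial.X (Sum.inr j) - coord bB T n Y j))
  let q := Ideal.Quotient.mkₐ R J
  have h₁ : mapP B q n X * mapP B q n Y = 1 := by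
    rw [← sub_eq_zero, ← map_mul, ← map_one (mapP B q n), ← map_sub]
    refine eq_of_coord bB fun j => ?_
    rw [coord_mapP, map_zero]
    exact Ideal.Quotient.eq_zero_iff_mem.2 (Ideal.mem_sup_left (Ideal.subset_span ⟨j, rfl⟩))
  have hql : ∀ j, q (MvPolynomial.X (Sum.inl j)) = coord bB _ n (mapP B q n X) j := fun j => by
    rw [coord_mapP, ← sub_eq_zero, ← map_sub]
    exact Ideal.Quotient.eq_zero_iff_mem.2
      (Ideal.mem_sup_right (Ideal.mem_sup_left (Ideal.subset_span ⟨j, rfl⟩)))
  have hqr : ∀ j, q (MvPolynomial.X (Sum.inr j)) = coord bB _ n (mapP B q n Y) j := fun j => by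
    rw [coord_mapP, ← sub_eq_zero, ← map_sub]
    exact Ideal.Quotient.eq_zero_iff_mem.2
      (Ideal.mem_sup_right (Ideal.mem_sup_right (Ideal.subset_span ⟨j, rfl⟩)))
  obtain ⟨b₁, hbv, hbi⟩ := exists_unit _ _ h₁
  have hJ : J.FG := (Submodule.fg_span (Set.finite_range _)).sup
    ((Submodule.fg_span (Set.finite_range _)).sup (Submodule.fg_span (Set.finite_range _)))
  refine ⟨T ⧸ J, inferInstance, inferInstance, b₁, Algebra.FinitePresentation.quotient hJ,
    fun {A'} _ _ b => ?_, fun {A'} _ _ g g' h => ?_⟩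
  · let g₀ : T →ₐ[R] A' :=
      MvPolynomial.aeval (Sum.elim (coord bB A' n (val b)) (coord bB A' n (ival b)))
    have hgX : mapP B g₀ n X = val b := by
      rw [mapP_mk, ← mk_coord bB n (val b)]
      exact congrArg (mk bB A' n) (funext fun j => MvPolynomial.aeval_X _ _)
    have hgY : mapP B g₀ n Y = ival b := by
      rw [mapP_mk, ← mk_coord bB n (ival b)]
      exact congrArg (mk bB A' n) (funext fun j => MvPolynomial.aeval_X _ _)
    have hle : ∀ a ∈ J, g₀ a = 0 := by
      intro a ha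
      refine (sup_le ?_ (sup_le (Ideal.span_le.2 ?_) (Ideal.span_le.2 ?_)) : J ≤ RingHom.ker g₀) ha
      · intro x hx
        refine coordIdeal_le bB _ g₀ ?_ x hx
        rw [map_sub, map_mul, map_one, hgX, hgY, val_mul_ival, sub_self]
      · rintro _ ⟨j, rfl⟩
        rw [SetLike.mem_coe, RingHom.mem_ker, map_sub, ← coord_mapP, hgX, MvPolynomial.aeval_X]
        exact sub_self _
      · rintro _ ⟨j, rfl⟩
        rw [SetLike.mem_coe, RingHom.mem_ker, map_sub, ← coord_mapP, hgY, MvPolynomial.aeval_X]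
        exact sub_self _
    refine ⟨Ideal.Quotient.liftₐ J g₀ hle, val_injective ?_⟩
    rw [val_um, hbv, mapP_mapP]
    exact hgX
  · refine Ideal.Quotient.algHom_ext R (MvPolynomial.algHom_ext ?_)
    rintro (j | j)
    · change g (q _) = g' (q _)
      rw [hql, ← hbv, ← coord_mapP, ← coord_mapP, ← val_um, ← val_um, h]
    · change g (q _) = g' (q _)
      rw [hqr, ← hbi, ← coord_mapP, ← coord_mapP, ← ival_um, ← ival_um, h]

theorem base_change {A A' : Type u} [CommRing A] [CommRing A'] [Algebra R A] [Algebra R A']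
    (g : A →ₐ[R] A') {m : ℕ} (c : U R B R m) :
    um R (mapP B g m) (um R (mapP B (Algebra.ofId R A) m) c) =
      um R (mapP B (Algebra.ofId R A') m) c := by
  rw [um_um, mapP_comp, Subsingleton.elim (g.comp (Algebra.ofId R _)) (Algebra.ofId R _)]

include bB in
/-- The classifying algebra. -/
theorem exists_classifier (ε : B →ₗ[R] R) (hε : ε 1 = 1) (c : U R B R (n + 1))
    (hc : dU R B R (n + 1) c = 0) :
    ∃ (E : Type u) (_ : CommRing E) (_ : Algebra R E), Algebra.Smooth R E ∧
      Nonempty (E →ₐ[R] B) ∧ ∀ (C : Type u) [CommRing C] [Algebra R C], (E →ₐ[R] C) →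
        ∃ b : U R B C n, dU R B C n b = um R (mapP B (Algebra.ofId R C) (n + 1)) c := by
  obtain ⟨A₁, _, _, b₁, _, hfac₁, hext₁⟩ := exists_invertible bB n
  let vd := val (dU R B A₁ n b₁) - val (um R (mapP B (Algebra.ofId R A₁) (n + 1)) c)
  let E := A₁ ⧸ coordIdeal bB vd
  let q : A₁ →ₐ[R] E := Ideal.Quotient.mkₐ R (coordIdeal bB vd)
  let bE : U R B E n := um R (mapP B q n) b₁
  have hbE : dU R B E n bE = um R (mapP B (Algebra.ofId R E) (n + 1)) c := by
    rw [← um_mapP_dU, ← base_change q]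
    exact um_eq_of_mapP_sub _ _ q (mapP_mk_coordIdeal bB vd)
  have hfac : ∀ {A : Type u} [CommRing A] [Algebra R A] (b : U R B A n),
      dU R B A n b = um R (mapP B (Algebra.ofId R A) (n + 1)) c →
      ∃ g : E →ₐ[R] A, um R (mapP B g n) bE = b := by
    intro A _ _ b hb
    obtain ⟨g₁, hg₁⟩ := hfac₁ b
    refine ⟨Ideal.Quotient.liftₐ _ g₁ (coordIdeal_le bB vd g₁ (mapP_sub_eq_zero _ _ g₁ ?_)), ?_⟩
    · rw [um_mapP_dU, hg₁, hb, base_change]
    · rw [um_um, mapP_comp]
      exact hg₁
  have hext : ∀ {A : Type u} [CommRing A] [Algebra R A] (g g' : E →ₐ[R] A),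
      um R (mapP B g n) bE = um R (mapP B g' n) bE → g = g' := by
    intro A _ _ g g' h
    rw [um_um, um_um, mapP_comp, mapP_comp] at h
    exact Ideal.Quotient.algHom_ext R (hext₁ _ _ h)
  have : Algebra.FinitePresentation R E :=
    Algebra.FinitePresentation.quotient (Submodule.fg_span (Set.finite_range _))
  have hsm : Algebra.FormallySmooth R E := by
    refine Algebra.FormallySmooth.of_comp_surjective fun A _ _ I hI g₀ => ?_
    let π : A →ₐ[R] A ⧸ I := Ideal.Quotient.mkₐ R I
    have hπ : ∀ x y : A, π x = 0 → π y = 0 → x * y = 0 := fun x y hx hy => by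
      have h := Ideal.mul_mem_mul (Ideal.Quotient.eq_zero_iff_mem.1 hx)
        (Ideal.Quotient.eq_zero_iff_mem.1 hy)
      rwa [← sq, hI, Ideal.mem_bot] at h
    obtain ⟨b, hb, hb₀⟩ := exists_lift_dU ε (f := π) Ideal.Quotient.mk_surjective hπ hε n
      (um R (mapP B g₀ n) bE) (um R (mapP B (Algebra.ofId R A) (n + 1)) c)
      (by rw [← um_mapP_dU, hc, map_zero]) (by rw [← um_mapP_dU, hbE, base_change, base_change])
    obtain ⟨g, hg⟩ := hfac b hb
    refine ⟨g, hext _ _ ?_⟩
    rw [← mapP_comp, ← um_um, hg, hb₀]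
  refine ⟨E, inferInstance, inferInstance, ⟨hsm, inferInstance⟩, ?_, fun C _ _ g =>
    ⟨um R (mapP B g n) bE, by rw [← um_mapP_dU, hbE, base_change]⟩⟩
  exact ⟨(hfac _ (dU_cone R B c hc)).choose⟩

end universal

end Groth.Agent.Lib.FppfGm.Classify
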