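import Groth.Agent.Lib.FppfGm.Cochain
import Groth.Agent.Lib.FppfGm.Classify
import Groth.Agent.Lib.FppfEt.LocAcyclic
import Groth.Agent.Lib.EtaleSection.Sections
import Mathlib.RingTheory.Flat.EquationalCriterion
import Mathlib.RingTheory.Finiteness.Projective
import Mathlib.AlgebraicGeometry.Morphisms.Finite
import Mathlib.RingTheory.RingHom.Smooth

/-!
# The multiplicative group has etale-locally exact Cech complexes along finite flat covers
-/

set_option autoImplicit false

universe u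

open CategoryTheory CategoryTheory.Limits AlgebraicGeometry Opposite

noncomputable section

namespace Groth.Agent.Lib.FppfGm.Acyclic

open Groth.Agent.Lib.FppfEt.Nerve Groth.Agent.Lib.FppfEt.LocAcyclic Groth.Agent.Lib.FppfGm.Amitsur
  Groth.Agent.Lib.FppfGm.Points Groth.Agent.Lib.FppfGm.Cochain Groth.Agent.Lib.FppfGm.Classify

variable {X : Scheme.{u}} {R B : Type u} [CommRing R] [CommRing B] [Algebra R B]
  (i : Spec (CommRingCat.of R) ⟶ X)

theorem exists_retraction {ι : Type u} [Fintype ι] (bB : DualBasis R B ι)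
    (hs : Function.Surjective (PrimeSpectrum.comap (algebraMap R B))) :
    ∃ ε : B →ₗ[R] R, ε 1 = 1 := by
  classical
  let J : Ideal R := Ideal.span (Set.range fun j => bB.f j 1)
  have hJ : J = ⊤ := by
    by_contra hne
    obtain ⟨M, hM, hle⟩ := Ideal.exists_le_maximal J hne
    obtain ⟨q, hq⟩ := hs ⟨M, hM.isPrime⟩
    refine q.isPrime.ne_top ((Ideal.eq_top_iff_one _).2 ?_)
    rw [← bB.spec 1]
    refine Submodule.sum_mem _ fun j _ => ?_
    rw [Algebra.smul_def]
    refine Ideal.mul_mem_right _ _ ?_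
    have : bB.f j 1 ∈ M := hle (Ideal.subset_span ⟨j, rfl⟩)
    rw [← show (PrimeSpectrum.comap (algebraMap R B) q).asIdeal = M from congrArg _ hq] at this
    exact this
  have h1 : (1 : R) ∈ J := hJ ▸ Submodule.mem_top
  obtain ⟨r, hr⟩ := (Submodule.mem_span_range_iff_exists_fun R).1 h1
  refine ⟨∑ j, r j • bB.f j, ?_⟩
  simpa using hr

theorem exists_dualBasis [Module.Finite R B] [Module.Projective R B] :
    ∃ (ι : Type u) (_ : Fintype ι), Nonempty (DualBasis R B ι) := by
  obtain ⟨n, f, g, -, -, hfg⟩ := Module.Finite.exists_comp_eq_id_of_projective R B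
  refine ⟨ULift.{u} (Fin n), inferInstance, ⟨⟨fun j => f (Pi.single j.down 1),
    fun j => (LinearMap.proj j.down).comp g, fun x => ?_⟩⟩⟩
  refine Eq.trans ?_ (LinearMap.congr_fun hfg x)
  rw [← Equiv.ulift.symm.sum_comp]
  refine Eq.trans ?_ (congrArg f (pi_eq_sum_univ (g x)).symm)
  rw [map_sum]
  refine Finset.sum_congr rfl fun j _ => ?_
  rw [map_smul]
  refine congrArg (fun v => g x j • f v) (funext fun l => ?_)
  simp [Pi.single_apply, eq_comm]

/-- The cochain of a unit over an algebra. -/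
theorem exists_cochain (C : Type u) [CommRing C] [Algebra R C] {T' V' : Over X} {v' : V' ⟶ T'}
    (φ : Chg v' (v₀ B i)) (gC : T'.left ⟶ Spec (CommRingCat.of C))
    (hgC : gC ≫ Spec.map (CommRingCat.ofHom (algebraMap R C)) = φ.g.left) {m : ℕ}
    (b : U R B C m) :
    ∃ bc : Kn v' m ⟶ (EtDl.GmF X).obj, ∀ (W : Over X) (t : CechPsh.Nerve.T (Uf v') (Fin m) W),
      ∃ h, evK bc t = value (φ.simp t) (liftA (t.1.1.left ≫ gC) h) b := by
  have hh : ∀ (W : Over X) (t : CechPsh.Nerve.T (Uf v') (Fin m) W),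
      (t.1.1.left ≫ gC) ≫ Spec.map (CommRingCat.ofHom (algebraMap R C)) = (φ.simp t).1.1.left :=
    fun W t => by
      rw [Category.assoc, hgC]
      exact (Over.comp_left _ _ _ t.1.1 φ.g).symm
  let val' : ∀ (W : Over X), CechPsh.Nerve.T (Uf v') (Fin m) W → (EtDl.GmF X).obj.obj (op W) :=
    fun W t => value (φ.simp t) (liftA (t.1.1.left ≫ gC) (hh W t)) b
  have nat : ∀ {W W' : Over X} (g : W' ⟶ W) (t : CechPsh.Nerve.T (Uf v') (Fin m) W),
      val' W' (CechPsh.Nerve.res g t) = (EtDl.GmF X).obj.map g.op (val' W t) := by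
    intro W W' g t
    have e : g.left ≫ (φ.simp t).1.1.left = (φ.simp (CechPsh.Nerve.res g t)).1.1.left :=
      congrArg Over.Hom.left (Category.assoc g t.1.1 φ.g).symm
    symm
    change (EtDl.GmF X).obj.map g.op (toGm _ _) = toGm _ _
    rw [map_toGm g _ _ e, um_um, cl_comp]
    refine congrArg (fun k => toGm _ (um R k b)) ?_
    refine congr (congrArg (fun ψ => cl ψ m) (AlgHom.ext fun r => ?_)) (funext fun a => AlgHom.ext fun r => ?_)
    · exact (RingHom.congr_fun ((ringHomOf_comp g.left (t.1.1.left ≫ gC)).symm.trans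
        (congrArg ringHomOf ((Category.assoc g.left t.1.1.left gC).symm))) r)
    · exact (RingHom.congr_fun ((ringHomOf_comp g.left (lft (φ.simp t) a).left).symm.trans
        (congrArg ringHomOf (congrArg Over.Hom.left
          (Category.assoc g (lft t a) φ.gV).symm))) r)
  let bc : Kn v' m ⟶ (EtDl.GmF X).obj :=
    { app := fun W => AddCommGrpCat.ofHom
        (CechPsh.Nerve.lift.{u + 1, u, u + 1, u + 1} (val' W.unop))
      naturality := fun W W' g => AddCommGrpCat.hom_ext (CechPsh.Nerve.hom_ext fun t => by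
        let L (W : Over X) : CechPsh.Nerve.F.{u + 1, u, u + 1} (Uf v') (Fin m) W →+
            (EtDl.GmF X).obj.obj (op W) := CechPsh.Nerve.lift.{u + 1, u, u + 1, u + 1} (val' W)
        change L W'.unop (CechPsh.Nerve.fmap.{u + 1, u, u + 1} (CechPsh.Nerve.res g.unop)
          (CechPsh.Nerve.gen.{u + 1, u, u + 1} t)) =
            (EtDl.GmF X).obj.map g (L W.unop (CechPsh.Nerve.gen.{u + 1, u, u + 1} t))
        rw [CechPsh.Nerve.fmap_gen]
        exact (CechPsh.Nerve.lift_gen _ _).trans ((nat g.unop t).trans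
          (congrArg ((EtDl.GmF X).obj.map g) (CechPsh.Nerve.lift_gen _ t).symm))) }
  exact ⟨bc, fun W t => ⟨hh W t, CechPsh.Nerve.lift_gen _ t⟩⟩

/-- Cocycles along an affine finite flat cover are coboundaries etale locally. -/
theorem exists_coboundary_affine [Module.Finite R B] [Module.Projective R B]
    (hv : Cov (v₀ B i)) (n : ℕ) (c : Kn (v₀ B i) (n + 2) ⟶ (EtDl.GmF X).obj)
    (hc : dv (v₀ B i) (n + 1) ≫ c = 0) (x : Spec (CommRingCat.of R)) :
    ∃ (T' V' : Over X) (v' : V' ⟶ T') (φ : Chg v' (v₀ B i)), Cov v' ∧ Etale φ.g.left ∧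
      x ∈ Set.range φ.g.left.base ∧
        ∃ b : Kn v' (n + 1) ⟶ (EtDl.GmF X).obj, φ.kmap _ ≫ c = dv v' n ≫ b := by
  obtain ⟨ι, _, ⟨bB⟩⟩ := exists_dualBasis (R := R) (B := B)
  have hs : Function.Surjective (PrimeSpectrum.comap (algebraMap R B)) := fun p => by
    obtain ⟨q, hq⟩ := hv.surj.surj p
    exact ⟨q, hq⟩
  obtain ⟨ε, hε⟩ := exists_retraction bB hs
  obtain ⟨cU, hcU⟩ := exists_cU c
  have hd := dU_eq_zero cU c hc hcU
  obtain ⟨E, _, _, hsm, ⟨π⟩, hE⟩ := exists_classifier bB (n + 1) ε hε cU hd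
  let φE : CommRingCat.of R ⟶ CommRingCat.of E := CommRingCat.ofHom (algebraMap R E)
  let pE := Spec.map φE
  have : Smooth pE :=
    (HasRingHomProperty.Spec_iff (P := @Smooth)).2 (RingHom.smooth_algebraMap.2 hsm)
  obtain ⟨q, hq⟩ := hv.surj.surj x
  have hπ : Spec.map (CommRingCat.ofHom π.toRingHom) ≫ pE =
      Spec.map (CommRingCat.ofHom (algebraMap R B)) := by
    rw [← Spec.map_comp]
    exact congrArg Spec.map (CommRingCat.hom_ext (RingHom.ext fun r => π.commutes r))
  obtain ⟨S', g, s', hg, hgs, h, hh⟩ := EtaleSection.Sections.exists_etale_section pE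
    ((Spec.map (CommRingCat.ofHom π.toRingHom)).base q)
  obtain ⟨U, hU, hsU, -⟩ := exists_isAffineOpen_mem_and_subset (x := s') (U := (⊤ : S'.Opens)) trivial
  let C : Type u := Γ(S', U)
  let ψ : CommRingCat.of R ⟶ CommRingCat.of C := Spec.preimage (hU.fromSpec ≫ g)
  letI : Algebra R C := ψ.hom.toAlgebra
  have hψ : Spec.map (CommRingCat.ofHom (algebraMap R C)) = hU.fromSpec ≫ g :=
    Spec.map_preimage _
  let χ₀ : CommRingCat.of E ⟶ CommRingCat.of C := Spec.preimage (hU.fromSpec ≫ h)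
  have hχ₀ : φE ≫ χ₀ = CommRingCat.ofHom (algebraMap R C) := Spec.map_injective (by
    rw [Spec.map_comp, Spec.map_preimage, Category.assoc, hh, hψ])
  let χ : E →ₐ[R] C :=
    { χ₀.hom with commutes' := fun r => RingHom.congr_fun (congrArg CommRingCat.Hom.hom hχ₀) r }
  obtain ⟨b, hb⟩ := hE C χ
  let σ := Spec.map (CommRingCat.ofHom (algebraMap R C))
  let T' : Over X := Over.mk (σ ≫ i)
  let g' : T' ⟶ T₀ i := Over.homMk σ rfl
  let φ := bc (v₀ B i) g'
  obtain ⟨bK, hbK⟩ := exists_cochain i C φ (𝟙 _) (Category.id_comp σ) b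
  refine ⟨T', _, bcMap (v₀ B i) g', φ, hv.bc g', ?_, ?_, bK, ?_⟩
  · change Etale σ
    rw [show σ = hU.fromSpec ≫ g from hψ]
    have : Etale g := hg
    infer_instance
  · refine ⟨hU.primeIdealOf ⟨s', hsU⟩, ?_⟩
    change σ.base _ = x
    rw [show σ = hU.fromSpec ≫ g from hψ]
    refine (congrArg g.base (hU.fromSpec_primeIdealOf ⟨s', hsU⟩)).trans ?_
    exact hgs.trans ((congrArg (fun k => k.base q) hπ).trans hq)
  · refine hom_ext_K fun W t => ?_
    rw [φ.evK_kmap, evK_dv, hcU]
    have hψt := hbK _ (CechPsh.Nerve.reindex (Fin.succAbove 0) t)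
    obtain ⟨h0, -⟩ := hψt
    refine Eq.trans ?_ (Finset.sum_congr rfl fun a _ => congrArg ((-1 : ℤ) ^ (a : ℕ) • ·)
      (hbK _ (CechPsh.Nerve.reindex a.succAbove t)).choose_spec.symm)
    refine Eq.trans ?_ (sum_value (φ.simp t) (liftA (t.1.1.left ≫ 𝟙 _) h0) b).symm
    rw [hb, value, value, um_um, cl_mapP]
    exact congrArg (fun k => toGm _ (um R (cl k (n + 2) (tuple (φ.simp t))) cU))
      (Subsingleton.elim _ _)

/-- The multiplicative group is etale-locally acyclic along finite flat covers. -/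
theorem la_GmF : LA (EtDl.GmF X) := by
  intro T V v hv n c hc t
  obtain ⟨U, hU, htU, -⟩ := exists_isAffineOpen_mem_and_subset (x := t) (U := (⊤ : T.left.Opens)) trivial
  let A : Type u := Γ(T.left, U)
  let T₁ : Over X := Over.mk (hU.fromSpec ≫ T.hom)
  let g : T₁ ⟶ T := Over.homMk hU.fromSpec rfl
  have hv₁ := hv.bc g
  let P : Scheme.{u} := pullback hU.fromSpec v.left
  let p : P ⟶ Spec (CommRingCat.of A) := pullback.fst hU.fromSpec v.left
  have hpf : IsFinite p := hv₁.finite
  have : IsAffine P := isAffine_of_isAffineHom p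
  let β : CommRingCat.of A ⟶ CommRingCat.of Γ(P, ⊤) := Spec.preimage (P.isoSpec.inv ≫ p)
  let Bt : Type u := Γ(P, ⊤)
  letI : Algebra A Bt := β.hom.toAlgebra
  have hβ : Spec.map (CommRingCat.ofHom (algebraMap A Bt)) = P.isoSpec.inv ≫ p :=
    Spec.map_preimage _
  let w := v₀ (X := X) Bt T₁.hom
  have hw : w.left = P.isoSpec.inv ≫ p := hβ
  have : Flat p := hv₁.flat
  have : LocallyOfFinitePresentation p := hv₁.lfp
  have : Surjective p := hv₁.surj
  have hcov : Cov w := by
    refine ⟨?_, ?_, ?_, ?_⟩ <;> rw [hw] <;> infer_instance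
  have hfin : (CommRingCat.ofHom (algebraMap A Bt)).hom.Finite :=
    (IsFinite.SpecMap_iff _).1 (by rw [hβ]; infer_instance)
  have hflat : (CommRingCat.ofHom (algebraMap A Bt)).hom.Flat :=
    (HasRingHomProperty.Spec_iff (P := @Flat)).1 (by rw [hβ]; infer_instance)
  have hfp : (CommRingCat.ofHom (algebraMap A Bt)).hom.FinitePresentation :=
    (HasRingHomProperty.Spec_iff (P := @LocallyOfFinitePresentation)).1 (by rw [hβ]; infer_instance)
  have : Module.Finite A Bt := RingHom.finite_algebraMap.1 hfin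
  have : Module.Flat A Bt := RingHom.flat_algebraMap_iff.1 hflat
  have : Algebra.FinitePresentation A Bt := RingHom.finitePresentation_algebraMap.1 hfp
  have : Module.FinitePresentation A Bt :=
    Module.FinitePresentation.of_finite_of_finitePresentation A Bt
  have : Module.Projective A Bt := Module.Flat.projective_of_finitePresentation
  let φ : Chg w v :=
    { g := g
      gV := Over.homMk (P.isoSpec.inv ≫ pullback.snd hU.fromSpec v.left) (by
        change (P.isoSpec.inv ≫ pullback.snd hU.fromSpec v.left) ≫ V.hom =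
          Spec.map (CommRingCat.ofHom (algebraMap A Bt)) ≫ hU.fromSpec ≫ T.hom
        rw [hβ, ← Over.w v, Category.assoc, Category.assoc, pullback.condition_assoc])
      w := Over.OverMorphism.ext ((Category.assoc _ _ _).trans
        ((congrArg (P.isoSpec.inv ≫ ·) pullback.condition.symm).trans
          ((Category.assoc _ _ _).symm.trans (congrArg (· ≫ hU.fromSpec) hw.symm)))) }
  have hc₁ : dv w (n + 1) ≫ φ.kmap _ ≫ c = 0 := by
    rw [← φ.kmap_dv, hc, comp_zero]
  obtain ⟨T', V', v', ψ, hv', het, ⟨z, hz⟩, b, hb⟩ := exists_coboundary_affine T₁.hom hcov n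
    (φ.kmap _ ≫ c) hc₁ (hU.primeIdealOf ⟨t, htU⟩)
  refine ⟨T', V', v', φ.comp ψ, hv', ?_, ⟨z, ?_⟩, b, ?_⟩
  · change Etale (ψ.g ≫ g).left
    rw [Over.comp_left _ _ _ _ _]
    have : Etale ψ.g.left := het
    exact (inferInstance : Etale (ψ.g.left ≫ hU.fromSpec))
  · change (ψ.g ≫ g).left.base z = t
    rw [Over.comp_left _ _ _ _ _, Scheme.Hom.comp_apply, hz]
    exact hU.fromSpec_primeIdealOf ⟨t, htU⟩
  · rw [← Chg.kmap_comp]
    exact hb

end Groth.Agent.Lib.FppfGm.Acyclic
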