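import Mathlib.LinearAlgebra.TensorProduct.RightExactness
import Mathlib.RingTheory.TensorProduct.Maps
import Mathlib.LinearAlgebra.TensorProduct.Pi
import Mathlib.Algebra.Category.CommAlgCat.Basic
import Mathlib.RingTheory.Smooth.Basic
import Mathlib.RingTheory.FinitePresentation
import Mathlib.Algebra.Algebra.Operations
import Mathlib.LinearAlgebra.FreeModule.Basic
import Mathlib.RingTheory.Nilpotent.Basic

/-!
# The Amitsur complex of units of an algebra

For an algebra `B` over `R` with a linear retraction of the unit and a finite basis, the unit cochains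
with a prescribed coboundary are classified by a formally smooth algebra of finite presentation, with a
point over `B`.
-/

set_option autoImplicit false

universe u

open TensorProduct

noncomputable section

namespace Groth.Agent.Lib.FppfGm.Amitsur

variable (R B : Type u) [CommRing R] [CommRing B] [Algebra R B]

/-- `C ⊗ B^{⊗ n}`. -/
@[reducible] def Pw (C : Type u) [CommRing C] [Algebra R C] : ℕ → CommAlgCat.{u} R
  | 0 => CommAlgCat.of R C
  | n + 1 => CommAlgCat.of R (B ⊗[R] (Pw C n : Type u))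

variable {C D : Type u} [CommRing C] [CommRing D] [Algebra R C] [Algebra R D]

variable {R}

/-- Change of coefficients. -/
def mapP (f : C →ₐ[R] D) : (n : ℕ) → (Pw R B C n →ₐ[R] Pw R B D n)
  | 0 => f
  | n + 1 => Algebra.TensorProduct.map (AlgHom.id R B) (mapP f n)

variable (R) (C)

/-- The coefficients. -/
def κ : (n : ℕ) → (C →ₐ[R] Pw R B C n)
  | 0 => AlgHom.id R C
  | n + 1 => Algebra.TensorProduct.includeRight.comp (κ n)

/-- The cofaces. -/
def δ : (n : ℕ) → Fin (n + 1) → (Pw R B C n →ₐ[R] Pw R B C (n + 1))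
  | 0, _ => Algebra.TensorProduct.includeRight
  | n + 1, i => Fin.cases Algebra.TensorProduct.includeRight
      (fun j => Algebra.TensorProduct.map (AlgHom.id R B) (δ n j)) i

theorem δ_zero (n : ℕ) : δ R B C n 0 = Algebra.TensorProduct.includeRight := by
  cases n <;> rfl

theorem δ_succ (n : ℕ) (j : Fin (n + 1)) :
    δ R B C (n + 1) j.succ = Algebra.TensorProduct.map (AlgHom.id R B) (δ R B C n j) := rfl

/-- The additive differential. -/
def dA (n : ℕ) : Pw R B C n →+ Pw R B C (n + 1) :=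
  ∑ i : Fin (n + 1), (-1 : ℤ) ^ (i : ℕ) • (δ R B C n i : _ →+ _)

theorem dA_apply (n : ℕ) (x : Pw R B C n) :
    dA R B C n x = ∑ i : Fin (n + 1), (-1 : ℤ) ^ (i : ℕ) • δ R B C n i x := by
  simp [dA]

theorem dA_tmul (n : ℕ) (b : B) (x : Pw R B C n) :
    dA R B C (n + 1) (b ⊗ₜ[R] x) = (1 : B) ⊗ₜ[R] (b ⊗ₜ[R] x) - b ⊗ₜ[R] (dA R B C n x) := by
  rw [dA_apply, Fin.sum_univ_succ, dA_apply, TensorProduct.tmul_sum]
  simp only [Fin.val_zero, pow_zero, one_smul, Fin.val_succ, pow_succ, mul_neg, mul_one, neg_smul,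
    Finset.sum_neg_distrib, δ_succ, δ_zero, sub_eq_add_neg]
  refine congrArg₂ (fun s t => s + -t) rfl (Finset.sum_congr rfl fun j _ => ?_)
  refine Eq.trans ?_ (TensorProduct.tmul_smul ((-1 : ℤ) ^ (j : ℕ)) b _).symm
  exact congrArg _ (Algebra.TensorProduct.map_tmul _ _ _ _)

variable {C}

theorem mapP_κ (f : C →ₐ[R] D) (n : ℕ) (c : C) : mapP B f n (κ R B C n c) = κ R B D n (f c) := by
  induction n with
  | zero => rfl
  | succ n ih =>
    change Algebra.TensorProduct.map (AlgHom.id R B) (mapP B f n) ((1 : B) ⊗ₜ[R] κ R B C n c) = _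
    rw [Algebra.TensorProduct.map_tmul, ih]
    rfl

theorem mapP_δ (f : C →ₐ[R] D) : ∀ (n : ℕ) (i : Fin (n + 1)),
    (mapP B f (n + 1)).comp (δ R B C n i) = (δ R B D n i).comp (mapP B f n)
  | 0, _ => AlgHom.ext fun x => by
    change Algebra.TensorProduct.map (AlgHom.id R B) (mapP B f 0) ((1 : B) ⊗ₜ[R] x) = _
    rw [Algebra.TensorProduct.map_tmul]
    rfl
  | n + 1, i => by
    induction i using Fin.cases with
    | zero =>
      refine AlgHom.ext fun x => ?_
      change Algebra.TensorProduct.map (AlgHom.id R B) (mapP B f (n + 1)) ((1 : B) ⊗ₜ[R] x) = _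
      rw [Algebra.TensorProduct.map_tmul]
      rfl
    | succ j =>
      rw [δ_succ, δ_succ]
      change (Algebra.TensorProduct.map (AlgHom.id R B) (mapP B f (n + 1))).comp _ =
        AlgHom.comp _ (Algebra.TensorProduct.map (AlgHom.id R B) (mapP B f n))
      rw [← Algebra.TensorProduct.map_comp, ← Algebra.TensorProduct.map_comp, mapP_δ f n j]

theorem mapP_comp {E : Type u} [CommRing E] [Algebra R E] (f : C →ₐ[R] D) (g : D →ₐ[R] E) :
    ∀ n : ℕ, (mapP B g n).comp (mapP B f n) = mapP B (g.comp f) n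
  | 0 => rfl
  | n + 1 => by
    change (Algebra.TensorProduct.map (AlgHom.id R B) _).comp
      (Algebra.TensorProduct.map (AlgHom.id R B) _) = _
    rw [← Algebra.TensorProduct.map_comp, mapP_comp f g n]
    rfl

theorem mapP_mapP {E : Type u} [CommRing E] [Algebra R E] (f : C →ₐ[R] D) (g : D →ₐ[R] E) (n : ℕ)
    (x : Pw R B C n) : mapP B g n (mapP B f n x) = mapP B (g.comp f) n x :=
  AlgHom.congr_fun (mapP_comp R B f g n) x

variable (C)

/-- Units, written additively. -/
abbrev U (n : ℕ) : Type u := Additive (Pw R B C n)ˣ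

/-- A map of algebras on units. -/
def um {A A' : CommAlgCat.{u} R} (f : A →ₐ[R] A') : Additive (A : Type u)ˣ →+ Additive (A' : Type u)ˣ :=
  (Units.map (f : (A : Type u) →* (A' : Type u))).toAdditive

theorem um_um {A A' A'' : CommAlgCat.{u} R} (f : A →ₐ[R] A') (g : A' →ₐ[R] A'')
    (x : Additive (A : Type u)ˣ) : um R g (um R f x) = um R (g.comp f) x :=
  rfl

/-- The differential on units. -/
def dU (n : ℕ) : U R B C n →+ U R B C (n + 1) :=
  ∑ i : Fin (n + 1), (-1 : ℤ) ^ (i : ℕ) • um R (δ R B C n i)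

theorem dU_apply (n : ℕ) (x : U R B C n) :
    dU R B C n x = ∑ i : Fin (n + 1), (-1 : ℤ) ^ (i : ℕ) • um R (δ R B C n i) x := by
  simp [dU]

variable {C}

theorem δ_succ_δ_zero (n : ℕ) (i : Fin (n + 1)) :
    (δ R B C (n + 1) i.succ).comp (δ R B C n 0) = (δ R B C (n + 1) 0).comp (δ R B C n i) := by
  rw [δ_succ, δ_zero, δ_zero]
  exact AlgHom.ext fun x => Algebra.TensorProduct.map_tmul _ _ (1 : B) x

theorem sum_δ_δ : ∀ (n : ℕ) {A : Type u} [AddCommGroup A]
    (F : (Pw R B C n →ₐ[R] Pw R B C (n + 2)) → A),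
    ∑ i : Fin (n + 2), (-1 : ℤ) ^ (i : ℕ) •
      ∑ j : Fin (n + 1), (-1 : ℤ) ^ (j : ℕ) • F ((δ R B C (n + 1) i).comp (δ R B C n j)) = 0
  | 0, _, _, F => by
    rw [Fin.sum_univ_two]
    simp only [Fin.val_zero, pow_zero, one_smul, Fin.val_one, pow_one, neg_smul]
    refine (congrArg₂ (fun a b => a + -b) (Fin.sum_univ_one _) (Fin.sum_univ_one _)).trans ?_
    simp only [Fin.val_zero, pow_zero, one_smul]
    exact (congrArg (fun k => _ + -F k) (δ_succ_δ_zero R B 0 0)).trans (add_neg_cancel _)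
  | n + 1, _, _, F => by
    have h := sum_δ_δ n fun k => F (Algebra.TensorProduct.map (AlgHom.id R B) k)
    have e : ∀ (i : Fin (n + 2)) (j : Fin (n + 1)),
        (δ R B C (n + 2) i.succ).comp (δ R B C (n + 1) j.succ) =
          Algebra.TensorProduct.map (AlgHom.id R B) ((δ R B C (n + 1) i).comp (δ R B C n j)) := by
      intro i j
      rw [δ_succ, δ_succ]
      exact (Algebra.TensorProduct.map_comp _ _ _ _).symm
    simp only [← e] at h
    have e2 : ∀ i : Fin (n + 2), (-1 : ℤ) ^ (i.succ : ℕ) • ∑ j : Fin (n + 2),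
        (-1 : ℤ) ^ (j : ℕ) • F ((δ R B C (n + 2) i.succ).comp (δ R B C (n + 1) j)) =
        -((-1 : ℤ) ^ (i : ℕ) • F ((δ R B C (n + 2) 0).comp (δ R B C (n + 1) i))) +
          (-1 : ℤ) ^ (i : ℕ) • ∑ j : Fin (n + 1),
            (-1 : ℤ) ^ (j : ℕ) • F ((δ R B C (n + 2) i.succ).comp (δ R B C (n + 1) j.succ)) := by
      intro i
      rw [Fin.sum_univ_succ, δ_succ_δ_zero]
      simp only [Fin.val_zero, pow_zero, one_smul, Fin.val_succ, pow_succ, mul_neg, mul_one,
        neg_smul, Finset.sum_neg_distrib, smul_add, smul_neg, neg_add, neg_neg]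
    rw [Fin.sum_univ_succ (n := n + 2), Finset.sum_congr rfl fun i _ => e2 i,
      Finset.sum_add_distrib, h, Finset.sum_neg_distrib, add_zero]
    simp only [Fin.val_zero, pow_zero, one_smul]
    exact add_neg_cancel _

theorem dU_dU (n : ℕ) (x : U R B C n) : dU R B C (n + 1) (dU R B C n x) = 0 := by
  rw [dU_apply]
  refine Eq.trans (Finset.sum_congr rfl fun i _ => ?_) (sum_δ_δ R B n fun k => um R k x)
  rw [dU_apply, map_sum]
  refine congrArg (_ • ·) (Finset.sum_congr rfl fun j _ => ?_)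
  rw [map_zsmul, um_um]

theorem um_mapP_dU (f : C →ₐ[R] D) (n : ℕ) (x : U R B C n) :
    um R (mapP B f (n + 1)) (dU R B C n x) = dU R B D n (um R (mapP B f n) x) := by
  rw [dU_apply, dU_apply, map_sum]
  refine Finset.sum_congr rfl fun i _ => ?_
  rw [map_zsmul, um_um, um_um, mapP_δ]

/-! ### The cone -/

/-- The last coefficient moved into the base. -/
def cone (n : ℕ) : Pw R B R (n + 1) →ₐ[R] Pw R B B n :=
  Algebra.TensorProduct.lift (κ R B B n) (mapP B (Algebra.ofId R B) n) fun _ _ => Commute.all _ _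

theorem cone_δ_zero (n : ℕ) :
    (cone R B n).comp (δ R B R n 0) = mapP B (Algebra.ofId R B) n := by
  rw [δ_zero]
  exact Algebra.TensorProduct.lift_comp_includeRight _ _ fun _ _ => Commute.all _ _

theorem cone_δ_succ (n : ℕ) (j : Fin (n + 1)) :
    (cone R B (n + 1)).comp (δ R B R (n + 1) j.succ) = (δ R B B n j).comp (cone R B n) := by
  refine Algebra.TensorProduct.ext ?_ ?_
  · refine AlgHom.ext fun b => ?_
    change cone R B (n + 1) (Algebra.TensorProduct.map (AlgHom.id R B) (δ R B R n j) (b ⊗ₜ[R] 1)) =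
      δ R B B n j (cone R B n (b ⊗ₜ[R] 1))
    rw [Algebra.TensorProduct.map_tmul, cone, cone, Algebra.TensorProduct.lift_tmul, map_one,
      Algebra.TensorProduct.lift_tmul, map_one, mul_one, map_one, mul_one]
    exact (κ_δ n j b).symm
  · refine AlgHom.ext fun x => ?_
    change cone R B (n + 1) (Algebra.TensorProduct.map (AlgHom.id R B) (δ R B R n j) (1 ⊗ₜ[R] x)) =
      δ R B B n j (cone R B n (1 ⊗ₜ[R] x))
    rw [Algebra.TensorProduct.map_tmul, cone, cone, Algebra.TensorProduct.lift_tmul,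
      Algebra.TensorProduct.lift_tmul, map_one, map_one, map_one, one_mul, one_mul]
    exact AlgHom.congr_fun (mapP_δ R B (Algebra.ofId R B) n j) x
where
  κ_δ : ∀ (m : ℕ) (i : Fin (m + 1)) (b : B), δ R B B m i (κ R B B m b) = κ R B B (m + 1) b
    | 0, _, _ => rfl
    | m + 1, i, b => by
      induction i using Fin.cases with
      | zero => rfl
      | succ l =>
        change Algebra.TensorProduct.map (AlgHom.id R B) (δ R B B m l)
          ((1 : B) ⊗ₜ[R] κ R B B m b) = (1 : B) ⊗ₜ[R] κ R B B (m + 1) b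
        rw [Algebra.TensorProduct.map_tmul, κ_δ m l b]
        rfl

/-- A cocycle is a coboundary over `B`. -/
theorem dU_cone {n : ℕ} (c : U R B R (n + 1)) (hc : dU R B R (n + 1) c = 0) :
    dU R B B n (um R (cone R B n) c) = um R (mapP B (Algebra.ofId R B) (n + 1)) c := by
  have h := congrArg (um R (cone R B (n + 1))) hc
  rw [map_zero, dU_apply, map_sum] at h
  rw [Fin.sum_univ_succ] at h
  have h0 : um R (cone R B (n + 1)) (um R (δ R B R (n + 1) 0) c) =
      um R (mapP B (Algebra.ofId R B) (n + 1)) c :=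
    congrArg (fun k => um R k c) (cone_δ_zero R B (n + 1))
  have h1 : ∀ j : Fin (n + 1), um R (cone R B (n + 1)) (um R (δ R B R (n + 1) j.succ) c) =
      um R (δ R B B n j) (um R (cone R B n) c) := fun j =>
    congrArg (fun k => um R k c) (cone_δ_succ R B n j)
  simp only [Fin.val_zero, pow_zero, one_smul,
    Fin.val_succ, pow_succ, mul_neg, mul_one, neg_smul, map_neg, Finset.sum_neg_distrib, h0] at h
  simp only [map_zsmul, h1] at h
  rw [dU_apply]
  exact (sub_eq_zero.1 ((sub_eq_add_neg _ _).trans h)).symm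

/-! ### Contraction -/

variable {R B} (ε : B →ₗ[R] R) (C)

/-- Contraction by a linear form. -/
def hc (n : ℕ) : Pw R B C (n + 1) →ₗ[R] Pw R B C n :=
  TensorProduct.lift ((LinearMap.lsmul R (Pw R B C n)).comp ε)

theorem hc_tmul (n : ℕ) (b : B) (x : Pw R B C n) : hc C ε n (b ⊗ₜ[R] x) = ε b • x := rfl

theorem hc_dA (hε : ε 1 = 1) (n : ℕ) (x : Pw R B C (n + 1)) :
    hc C ε (n + 1) (dA R B C (n + 1) x) + dA R B C n (hc C ε n x) = x := by
  induction x using TensorProduct.induction_on with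
  | zero => simp only [map_zero, add_zero]
  | tmul b x =>
    rw [dA_tmul, map_sub]
    rw [hc_tmul, hc_tmul, hc_tmul, hε, one_smul]
    have e : dA R B C n (ε b • x) = ε b • dA R B C n x := by
      rw [dA_apply, dA_apply, Finset.smul_sum]
      refine Finset.sum_congr rfl fun i _ => ?_
      exact (congrArg ((-1 : ℤ) ^ (i : ℕ) • ·) (map_smul (δ R B C n i) (ε b) x)).trans
        (smul_comm ((-1 : ℤ) ^ (i : ℕ)) (ε b) (δ R B C n i x))
    rw [e]
    exact sub_add_cancel _ _
  | add x y hx hy =>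
    conv_rhs => rw [← hx, ← hy]
    simp only [map_add]
    abel

variable {C}

theorem mapP_hc (f : C →ₐ[R] D) (n : ℕ) (x : Pw R B C (n + 1)) :
    mapP B f n (hc C ε n x) = hc D ε n (mapP B f (n + 1) x) := by
  induction x using TensorProduct.induction_on with
  | zero => exact (congrArg (mapP B f n) (map_zero _)).trans ((map_zero _).trans
      ((congrArg (hc D ε n) (map_zero _)).trans (map_zero _)).symm)
  | tmul b x =>
    refine (congrArg (mapP B f n) (hc_tmul C ε n b x)).trans ((map_smul (mapP B f n) (ε b) x).trans ?_)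
    exact (congrArg (hc D ε n) (Algebra.TensorProduct.map_tmul (AlgHom.id R B) (mapP B f n) b x)).symm
  | add x y hx hy =>
    refine (congrArg (mapP B f n) (map_add _ x y)).trans ((map_add _ _ _).trans ?_)
    rw [hx, hy]
    exact ((congrArg (hc D ε n) (map_add _ x y)).trans (map_add _ _ _)).symm

/-! ### Square-zero thickenings -/

variable {f : C →ₐ[R] D} (hf : Function.Surjective f)
  (hI : ∀ x y : C, f x = 0 → f y = 0 → x * y = 0)

include hf in
theorem mapP_surjective : ∀ n : ℕ, Function.Surjective (mapP B f n)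
  | 0 => hf
  | n + 1 => TensorProduct.map_surjective Function.surjective_id (mapP_surjective n)

include hf hI in
theorem mapP_sq : ∀ (n : ℕ) (x y : Pw R B C n), mapP B f n x = 0 → mapP B f n y = 0 → x * y = 0
  | 0, x, y, hx, hy => hI x y hx hy
  | n + 1, x, y, hx, hy => by
    have hk := Algebra.TensorProduct.lTensor_ker (A := B) (mapP B f n) (mapP_surjective (B := B) hf n)
    have hx' : x ∈ (RingHom.ker (mapP B f n)).map Algebra.TensorProduct.includeRight := hk ▸ hx
    have hy' : y ∈ (RingHom.ker (mapP B f n)).map Algebra.TensorProduct.includeRight := hk ▸ hy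
    have h0 : RingHom.ker (mapP B f n) * RingHom.ker (mapP B f n) = ⊥ :=
      eq_bot_iff.2 (Ideal.mul_le.2 fun r hr s hs => by
        rw [Ideal.mem_bot]; exact mapP_sq n r s hr hs)
    have h := Ideal.mul_mem_mul hx' hy'
    rw [← Ideal.map_mul, h0, Ideal.map_bot, Ideal.mem_bot] at h
    exact h

include hf hI in
/-- The unit `1 + x`. -/
theorem exists_one_add (n : ℕ) : ∃ φ : RingHom.ker (mapP B f n) →+ U R B C n,
    ∀ x, ((Additive.toMul (φ x) : (Pw R B C n)ˣ) : Pw R B C n) = 1 + (x : Pw R B C n) := by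
  let g : RingHom.ker (mapP B f n) → (Pw R B C n)ˣ := fun x =>
    { val := 1 + x.1
      inv := 1 - x.1
      val_inv := by
        have := mapP_sq hf hI n x.1 x.1 x.2 x.2
        linear_combination -this
      inv_val := by
        have := mapP_sq hf hI n x.1 x.1 x.2 x.2
        linear_combination -this }
  refine ⟨AddMonoidHom.mk' (fun x => Additive.ofMul (g x)) fun x y => ?_, fun x => rfl⟩
  refine congrArg Additive.ofMul (Units.ext ?_)
  change 1 + ((x : Pw R B C n) + (y : Pw R B C n)) = (1 + x.1) * (1 + y.1)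
  have := mapP_sq hf hI n x.1 y.1 x.2 y.2
  linear_combination -this

include hf hI in
/-- Coboundaries lift along square-zero thickenings. -/
theorem exists_lift_dU (hε : ε 1 = 1) (n : ℕ) (b₀ : U R B D n) (z : U R B C (n + 1))
    (hz : dU R B C (n + 1) z = 0) (h : dU R B D n b₀ = um R (mapP B f (n + 1)) z) :
    ∃ b : U R B C n, dU R B C n b = z ∧ um R (mapP B f n) b = b₀ := by
  obtain ⟨p, hp⟩ := mapP_surjective (B := B) hf n (Additive.toMul b₀ : (Pw R B D n)ˣ)
  obtain ⟨q, hq⟩ := mapP_surjective (B := B) hf n ((Additive.toMul b₀)⁻¹ : (Pw R B D n)ˣ)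
  have hpq : mapP B f n (1 - p * q) = 0 := by
    rw [map_sub, map_one, map_mul, hp, hq, Units.mul_inv, sub_self]
  have hp1 : IsUnit (p * q) := by
    refine IsUnit.of_mul_eq_one (1 + (1 - p * q)) ?_
    have := mapP_sq hf hI n _ _ hpq hpq
    linear_combination -this
  let b₁ : U R B C n := Additive.ofMul (isUnit_of_mul_isUnit_left hp1).unit
  have hb₁ : um R (mapP B f n) b₁ = b₀ := Additive.toMul.injective (Units.ext hp)
  let e := z - dU R B C n b₁
  have he : um R (mapP B f (n + 1)) e = 0 := by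
    rw [map_sub, um_mapP_dU, hb₁, h, sub_self]
  have hde : dU R B C (n + 1) e = 0 := by
    rw [map_sub, hz, dU_dU, sub_self]
  obtain ⟨φ, hφ⟩ := exists_one_add (B := B) hf hI n
  obtain ⟨φ₁, hφ₁⟩ := exists_one_add (B := B) hf hI (n + 1)
  obtain ⟨φ₂, hφ₂⟩ := exists_one_add (B := B) hf hI (n + 2)
  let x : Pw R B C (n + 1) := ((Additive.toMul e : (Pw R B C (n + 1))ˣ) : Pw R B C (n + 1)) - 1
  have hx : mapP B f (n + 1) x = 0 := by
    rw [map_sub, map_one, sub_eq_zero]
    exact congrArg (fun w : U R B D (n + 1) => ((Additive.toMul w : (Pw R B D (n + 1))ˣ) : (Pw R B D (n + 1) : Type u))) he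
  have hex : e = φ₁ ⟨x, hx⟩ := Additive.toMul.injective
    (Units.ext ((add_sub_cancel 1 _).symm.trans (hφ₁ ⟨x, hx⟩).symm))
  have key : ∀ (m : ℕ) (ψ : RingHom.ker (mapP B f m) →+ U R B C m)
      (_ : ∀ w, ((Additive.toMul (ψ w) : (Pw R B C m)ˣ) : Pw R B C m) = 1 + w.1)
      (ψ' : RingHom.ker (mapP B f (m + 1)) →+ U R B C (m + 1))
      (_ : ∀ w, ((Additive.toMul (ψ' w) : (Pw R B C (m + 1))ˣ) : Pw R B C (m + 1)) = 1 + w.1)
      (w : Pw R B C m) (hw : mapP B f m w = 0) (hw' : mapP B f (m + 1) (dA R B C m w) = 0),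
      dU R B C m (ψ ⟨w, hw⟩) = ψ' ⟨dA R B C m w, hw'⟩ := by
    intro m ψ hψ ψ' hψ' w hw hw'
    have hd : ∀ i : Fin (m + 1), mapP B f (m + 1) (δ R B C m i w) = 0 := fun i =>
      (AlgHom.congr_fun (mapP_δ R B f m i) w).trans
        ((congrArg (δ R B D m i) hw).trans (map_zero _))
    have e' : (⟨dA R B C m w, hw'⟩ : RingHom.ker (mapP B f (m + 1))) =
        ∑ i : Fin (m + 1), (-1 : ℤ) ^ (i : ℕ) •
          (⟨δ R B C m i w, hd i⟩ : RingHom.ker (mapP B f (m + 1))) :=
      Subtype.ext ((dA_apply R B C m w).trans (by simp [AddSubmonoidClass.coe_finsetSum]))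
    rw [e', map_sum, dU_apply]
    refine Finset.sum_congr rfl fun i _ => ?_
    rw [map_zsmul]
    refine congrArg ((-1 : ℤ) ^ (i : ℕ) • ·) (Additive.toMul.injective (Units.ext ?_))
    change δ R B C m i ((Additive.toMul (ψ ⟨w, hw⟩) : (Pw R B C m)ˣ) : Pw R B C m) = _
    rw [hψ, hψ', map_add, map_one]
  have hdx : dA R B C (n + 1) x = 0 := by
    have hw' : mapP B f (n + 2) (dA R B C (n + 1) x) = 0 := by
      rw [dA_apply, map_sum]
      refine Finset.sum_eq_zero fun i _ => ?_
      rw [map_zsmul]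
      refine (congrArg (_ • ·) ((AlgHom.congr_fun (mapP_δ R B f (n + 1) i) x).trans
        ((congrArg (δ R B D (n + 1) i) hx).trans (map_zero _)))).trans (smul_zero _)
    have h2 := (key (n + 1) φ₁ hφ₁ φ₂ hφ₂ x hx hw').symm.trans ((congrArg _ hex.symm).trans hde)
    have h3 := congrArg (fun w : U R B C (n + 2) => ((Additive.toMul w : (Pw R B C (n + 2))ˣ) :
      Pw R B C (n + 2))) h2
    exact add_eq_left.1 ((hφ₂ _).symm.trans h3)
  let y : Pw R B C n := hc C ε n x
  have hy : mapP B f n y = 0 := by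
    rw [mapP_hc, hx, map_zero]
  have hdy : dA R B C n y = x := by
    have := hc_dA C ε hε n x
    rwa [hdx, map_zero, zero_add] at this
  refine ⟨b₁ + φ ⟨y, hy⟩, ?_, ?_⟩
  · rw [map_add, key n φ hφ φ₁ hφ₁ y hy (hdy.symm ▸ hx)]
    have : (⟨dA R B C n y, hdy.symm ▸ hx⟩ : RingHom.ker (mapP B f (n + 1))) = ⟨x, hx⟩ :=
      Subtype.ext hdy
    rw [this, ← hex]
    exact add_sub_cancel _ _
  · rw [map_add, hb₁]
    refine add_eq_left.2 (Additive.toMul.injective (Units.ext ?_))
    change mapP B f n ((Additive.toMul (φ ⟨y, hy⟩) : (Pw R B C n)ˣ) : Pw R B C n) = 1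
    rw [hφ, map_add, map_one, hy, add_zero]

end Groth.Agent.Lib.FppfGm.Amitsur
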