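import Groth.Agent.Lib.FppfGm.Points
import Groth.Agent.Lib.FppfEt.Nerve
import Groth.Prelude.Def_EtDlF

/-!
# Cochains of the multiplicative group along a morphism of affine schemes
-/

set_option autoImplicit false

universe u

open CategoryTheory CategoryTheory.Limits AlgebraicGeometry Opposite

noncomputable section

namespace Groth.Agent.Lib.FppfGm.Cochain

open Groth.Agent.Lib.FppfEt.Nerve Groth.Agent.Lib.FppfGm.Amitsur Groth.Agent.Lib.FppfGm.Points

variable {X : Scheme.{u}} {R B : Type u} [CommRing R] [CommRing B] [Algebra R B]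

/-- Units of functions as sections of the sheaf. -/
def toGm {W : Over X} (t : W.left ⟶ Spec (CommRingCat.of R)) :
    Additive ((ga t : Type u))ˣ →+ (EtDl.GmF X).obj.obj (op W) :=
  AddMonoidHom.mk' (fun u => ULift.up u) fun _ _ => rfl

theorem toGm_injective {W : Over X} (t : W.left ⟶ Spec (CommRingCat.of R)) :
    Function.Injective (toGm (X := X) (W := W) t) := fun _ _ h => congrArg ULift.down h

theorem toGm_surjective {W : Over X} (t : W.left ⟶ Spec (CommRingCat.of R)) :
    Function.Surjective (toGm (X := X) (W := W) t) := fun y => ⟨y.down, rfl⟩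

theorem map_toGm {W W' : Over X} (g : W' ⟶ W) (t : W.left ⟶ Spec (CommRingCat.of R))
    (t' : W'.left ⟶ Spec (CommRingCat.of R)) (e : g.left ≫ t = t')
    (u : Additive ((ga t : Type u))ˣ) :
    (EtDl.GmF X).obj.map g.op (toGm t u) = toGm t' (um R (resA g.left e) u) :=
  rfl

variable (i : Spec (CommRingCat.of R) ⟶ X)

/-- The base. -/
abbrev T₀ : Over X := Over.mk i

variable (B) in
/-- The covering scheme. -/
abbrev V₀ : Over X :=
  Over.mk (Spec.map (CommRingCat.ofHom (algebraMap R B)) ≫ i)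

variable (B) in
/-- The covering map. -/
abbrev v₀ : V₀ B i ⟶ T₀ i := Over.homMk (Spec.map (CommRingCat.ofHom (algebraMap R B))) rfl

variable {i}

/-- The tuple of algebra maps of a simplex. -/
def tuple {m : ℕ} {W : Over X} (t : CechPsh.Nerve.T (Uf (v₀ B i)) (Fin m) W) (a : Fin m) :
    B →ₐ[R] ga t.1.1.left :=
  liftA (lft t a).left (congrArg Over.Hom.left (lft_w t a))

/-- The unit attached to a simplex. -/
def value {m : ℕ} {W : Over X} (t : CechPsh.Nerve.T (Uf (v₀ B i)) (Fin m) W) {C : Type u}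
    [CommRing C] [Algebra R C] (ψ : C →ₐ[R] ga t.1.1.left) (b : U R B C m) :
    (EtDl.GmF X).obj.obj (op W) :=
  toGm t.1.1.left (um R (cl ψ m (tuple t)) b)

theorem tuple_taut (m : ℕ) :
    ∃ (W : Over X) (s : CechPsh.Nerve.T (Uf (v₀ B i)) (Fin m) W) (e : Pw R B R m ≃ₐ[R] ga s.1.1.left),
      (∀ a, tuple s a = (e : _ →ₐ[R] _).comp (taut R B m a)) ∧
      ∀ (W' : Over X) (t : CechPsh.Nerve.T (Uf (v₀ B i)) (Fin m) W'),
        ∃ (g : W' ⟶ W) (h : g.left ≫ s.1.1.left = t.1.1.left), CechPsh.Nerve.res g s = t ∧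
          (resA g.left h).comp (e : _ →ₐ[R] _) = cl (Algebra.ofId R _) m (tuple t) := by
  let P : Type u := (Pw R B R m : Type u)
  let φ : CommRingCat.of R ⟶ CommRingCat.of P := CommRingCat.ofHom (algebraMap R P)
  let W : Over X := Over.mk (Spec.map φ ≫ i)
  have hl : ∀ a, Spec.map (CommRingCat.ofHom (taut R B m a).toRingHom) ≫
      Spec.map (CommRingCat.ofHom (algebraMap R B)) = Spec.map φ := fun a => by
    rw [← Spec.map_comp]
    exact congrArg Spec.map (CommRingCat.hom_ext (RingHom.ext fun r => (taut R B m a).commutes r))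
  let s : CechPsh.Nerve.T (Uf (v₀ B i)) (Fin m) W :=
    mkT (v := v₀ B i) (Over.homMk (Spec.map φ) rfl)
      (fun a => Over.homMk (Spec.map (CommRingCat.ofHom (taut R B m a).toRingHom)) (by
        change Spec.map (CommRingCat.ofHom (taut R B m a).toRingHom) ≫
          Spec.map (CommRingCat.ofHom (algebraMap R B)) ≫ i = Spec.map φ ≫ i
        rw [← Category.assoc, hl]))
      fun a => Over.OverMorphism.ext (hl a)
  have hinv : ∀ r : R, (Scheme.ΓSpecIso (CommRingCat.of P)).inv.hom (algebraMap R P r) =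
      ringHomOf (Spec.map φ) r := fun r => by
    have := ringHomOf_specMap (𝟙 (Spec (CommRingCat.of P))) φ
    rw [Category.id_comp, ringHomOf_id] at this
    exact (RingHom.congr_fun this r).symm
  let e : Pw R B R m ≃ₐ[R] ga s.1.1.left :=
    AlgEquiv.ofRingEquiv
      (f := (Scheme.ΓSpecIso (CommRingCat.of P)).symm.commRingCatIsoToRingEquiv) hinv
  refine ⟨W, s, e, fun a => AlgHom.ext fun b => ?_, fun W' t => ?_⟩
  · change ringHomOf (Spec.map (CommRingCat.ofHom (taut R B m a).toRingHom)) b = _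
    have := ringHomOf_specMap (𝟙 (Spec (CommRingCat.of P)))
      (CommRingCat.ofHom (taut R B m a).toRingHom)
    rw [Category.id_comp, ringHomOf_id] at this
    exact RingHom.congr_fun this b
  · let χ := cl (Algebra.ofId R (ga t.1.1.left)) m (tuple t)
    let k : CommRingCat.of P ⟶ Γ(W'.left, ⊤) := CommRingCat.ofHom χ.toRingHom
    let gl : W'.left ⟶ W.left := W'.left.toSpecΓ ≫ Spec.map k
    have hk : ringHomOf gl = χ.toRingHom := ringHomOf_toSpecΓ _ k
    have hgl : gl ≫ Spec.map φ = t.1.1.left := eq_of_ringHomOf (by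
      rw [ringHomOf_specMap, hk]
      exact RingHom.ext fun r => χ.commutes r)
    let g : W' ⟶ W := Over.homMk gl (by
      change gl ≫ Spec.map φ ≫ i = W'.hom
      rw [← Category.assoc, hgl]
      exact Over.w t.1.1)
    have htaut : ∀ a, χ.comp (taut R B m a) = tuple t a := fun a => by
      have := cl_comp (Algebra.ofId R (Pw R B R m)) χ m (taut R B m)
      rw [cl_taut, AlgHom.comp_id, Subsingleton.elim (χ.comp (Algebra.ofId R _)) (Algebra.ofId R _)]
        at this
      exact (tuple_eq m (tuple t) _ this a).symm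
    refine ⟨g, hgl, simp_ext (Over.OverMorphism.ext hgl) fun a => Over.OverMorphism.ext ?_, ?_⟩
    · refine eq_of_ringHomOf ?_
      change ringHomOf (gl ≫ Spec.map (CommRingCat.ofHom (taut R B m a).toRingHom)) = _
      rw [ringHomOf_specMap, hk]
      exact congrArg AlgHom.toRingHom (htaut a)
    · refine AlgHom.ext fun x => ?_
      exact RingHom.congr_fun hk x
where
  tuple_eq {G : Type u} [CommRing G] [Algebra R G] (m : ℕ) (l l' : Fin m → (B →ₐ[R] G))
      (h : cl (Algebra.ofId R G) m l = cl (Algebra.ofId R G) m l') : ∀ a, l a = l' a := by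
    induction m with
    | zero => exact fun a => a.elim0
    | succ m ih =>
      intro a
      induction a using Fin.cases with
      | zero =>
        refine AlgHom.ext fun b => ?_
        exact ((cl_tmul_one m l b).symm.trans
          (AlgHom.congr_fun h (b ⊗ₜ[R] (1 : Pw R B R m)))).trans (cl_tmul_one m l' b)
      | succ a =>
        refine ih (fun a => l a.succ) (fun a => l' a.succ) (AlgHom.ext fun x => ?_) a
        exact ((one_tmul m l x).symm.trans
          (AlgHom.congr_fun h ((1 : B) ⊗ₜ[R] x))).trans (one_tmul m l' x)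
  cl_tmul_one {G : Type u} [CommRing G] [Algebra R G] (m : ℕ) (l : Fin (m + 1) → (B →ₐ[R] G))
      (b : B) : cl (Algebra.ofId R G) (m + 1) l (b ⊗ₜ[R] (1 : Pw R B R m)) = l 0 b :=
    (cl_tmul _ m l b 1).trans ((congrArg (l 0 b * ·) (map_one _)).trans (mul_one _))
  one_tmul {G : Type u} [CommRing G] [Algebra R G] (m : ℕ) (l : Fin (m + 1) → (B →ₐ[R] G))
      (x : Pw R B R m) : cl (Algebra.ofId R G) (m + 1) l ((1 : B) ⊗ₜ[R] x) =
        cl (Algebra.ofId R G) m (fun a => l a.succ) x :=
    (cl_tmul _ m l 1 x).trans ((congrArg (· * _) (map_one _)).trans (one_mul _))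

/-- The unit cochain of a cochain. -/
theorem exists_cU {m : ℕ} (c : Kn (v₀ B i) m ⟶ (EtDl.GmF X).obj) :
    ∃ cU : U R B R m, ∀ (W : Over X) (t : CechPsh.Nerve.T (Uf (v₀ B i)) (Fin m) W),
      evK c t = value t (Algebra.ofId R _) cU := by
  obtain ⟨W₁, s, e, -, hs⟩ := tuple_taut (X := X) (B := B) (i := i) m
  obtain ⟨u₀, hu₀⟩ := toGm_surjective s.1.1.left (evK c s)
  refine ⟨um R (e.symm : _ →ₐ[R] _) u₀, fun W t => ?_⟩
  obtain ⟨g, h, hg, hcl⟩ := hs W t
  conv_lhs => rw [← hg]
  rw [evK_res, ← hu₀, map_toGm g _ _ h, value, um_um, ← hcl]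
  refine congrArg (fun k => toGm t.1.1.left (um R k u₀)) (AlgHom.ext fun x => ?_)
  exact (congrArg (resA g.left h) (e.apply_symm_apply x)).symm

theorem sum_value {m : ℕ} {W : Over X} (t : CechPsh.Nerve.T (Uf (v₀ B i)) (Fin (m + 1)) W)
    {C : Type u} [CommRing C] [Algebra R C] (ψ : C →ₐ[R] ga t.1.1.left) (b : U R B C m) :
    ∑ a : Fin (m + 1), (-1 : ℤ) ^ (a : ℕ) •
        value (CechPsh.Nerve.reindex a.succAbove t) ψ b = value t ψ (dU R B C m b) := by
  rw [value, dU_apply, map_sum, map_sum]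
  refine Finset.sum_congr rfl fun a _ => ?_
  rw [map_zsmul, map_zsmul, um_um, cl_δ]
  rfl

theorem dU_eq_zero {m : ℕ} (cU : U R B R (m + 1)) (c : Kn (v₀ B i) (m + 1) ⟶ (EtDl.GmF X).obj)
    (hc : dv (v₀ B i) m ≫ c = 0)
    (h : ∀ (W : Over X) (t : CechPsh.Nerve.T (Uf (v₀ B i)) (Fin (m + 1)) W),
      evK c t = value t (Algebra.ofId R _) cU) : dU R B R (m + 1) cU = 0 := by
  obtain ⟨W, s, e, hs, -⟩ := tuple_taut (X := X) (B := B) (i := i) (m + 2)
  have h0 : evK (dv (v₀ B i) m ≫ c) s = 0 := (congrArg (fun k => evK k s) hc).trans rfl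
  rw [evK_dv] at h0
  have h1 : value s (Algebra.ofId R _) (dU R B R (m + 1) cU) = 0 := by
    refine ((sum_value s (Algebra.ofId R _) cU).symm.trans ?_).trans h0
    exact Finset.sum_congr rfl fun a _ =>
      congrArg ((-1 : ℤ) ^ (a : ℕ) • ·) (h _ (CechPsh.Nerve.reindex a.succAbove s)).symm
  have hcl : cl (Algebra.ofId R _) (m + 2) (tuple s) = (e.toAlgHom) := by
    rw [funext hs, Subsingleton.elim (Algebra.ofId R _) ((e.toAlgHom).comp (Algebra.ofId R _)),
      ← cl_comp, cl_taut, AlgHom.comp_id]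
  rw [value, hcl] at h1
  have h2 := (toGm_injective s.1.1.left) (h1.trans (map_zero _).symm)
  have h3 := congrArg (um R (e.symm.toAlgHom)) h2
  rw [um_um, map_zero] at h3
  refine Eq.trans ?_ h3
  rw [show ((e.symm.toAlgHom).comp (e.toAlgHom)) = AlgHom.id R _ from
    AlgHom.ext e.symm_apply_apply]
  rfl

end Groth.Agent.Lib.FppfGm.Cochain
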