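import Groth.Agent.Lib.FppfEt.Coh

/-!
# Fppf cohomology of sheaves whose cocycles die etale locally
-/

set_option autoImplicit false

universe u

open CategoryTheory CategoryTheory.Limits AlgebraicGeometry Opposite

noncomputable section

namespace Groth.Agent.Lib.FppfGm.Coh

open Groth.Agent.Lib.FppfEt Groth.Agent.Lib.FppfEt.Resolution Groth.Agent.Lib.SpecSeq

variable {X : Scheme.{u}} [BigSite.AEtCont Scheme.fppfPrecoverage X] {G : EtFppf.AbF X}
  (R : InjectiveResolution G)
  (h : ∀ k, LocSurj (stage (K := Scheme.fppfPrecoverage) R k).g)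

/-- The restricted complex. -/
abbrev resCx : CochainComplex (EtCoh.Ab X) ℕ :=
  ((EtFppf.aPush X).mapHomologicalComplex (ComplexShape.up ℕ)).obj R.cocomplex

theorem aug_d : (EtFppf.aPush X).map (R.ι.f 0) ≫ (resCx R).d 0 1 = 0 := by
  change (EtFppf.aPush X).map (R.ι.f 0) ≫ (EtFppf.aPush X).map (R.cocomplex.d 0 1) = 0
  have h := congrArg (EtFppf.aPush X).map R.ι_f_zero_comp_complex_d
  rw [Functor.map_comp, Functor.map_zero] at h
  exact h

include h in
/-- The restriction of an injective resolution is an injective resolution. -/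
def resolution : InjectiveResolution ((EtFppf.aPush X).obj G) where
  cocomplex := resCx R
  injective n :=
    have : (EtFppf.aPull X).PreservesMonomorphisms := EtGerm.Unit.preservesMonomorphisms
      Scheme.fppfPrecoverage BigSite.etalePrecoverage_le_fppfPrecoverage
      Scheme.fppfPrecoverage_le_fpqcPrecoverage
    Injective.injective_of_adjoint (EtFppf.aAdj X) (R.cocomplex.X n)
  ι := (CochainComplex.fromSingle₀Equiv _ _).symm ⟨(EtFppf.aPush X).map (R.ι.f 0), aug_d R⟩
  quasiIso := ⟨fun n => by
    cases n with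
    | succ n =>
      rw [quasiIsoAt_iff_exactAt _ _ (CochainComplex.exactAt_succ_single_obj _ _)]
      exact Vanish.exactAt_resEt R h n
    | zero =>
      rw [CochainComplex.quasiIsoAt₀_iff, ShortComplex.quasiIso_iff_of_zeros]
      · have hl : IsLimit (KernelFork.ofι ((EtFppf.aPush X).map (R.ι.f 0)) (aug_d R) :
            KernelFork ((resCx R).d 0 1)) :=
          IsLimit.ofIsoLimit (KernelFork.mapIsLimit R.kernelFork R.isLimitKernelFork (EtFppf.aPush X))
            (Fork.ext (Iso.refl _) (Category.id_comp _))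
        let S := ShortComplex.mk ((EtFppf.aPush X).map (R.ι.f 0)) ((resCx R).d 0 1) (aug_d R)
        refine (ShortComplex.exact_and_mono_f_iff_of_iso ?_).1
          ⟨ShortComplex.exact_of_f_is_kernel S hl, Fork.IsLimit.mono hl⟩
        exact ShortComplex.isoMk (Iso.refl _) (Iso.refl _) (Iso.refl _)
          ((Category.id_comp _).trans (Category.comp_id _).symm)
          ((Category.id_comp _).trans (Category.comp_id _).symm)
      all_goals first | rfl | exact (resCx R).shape _ _ (by simp)⟩

/-- The two complexes of global sections. -/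
def cxIso (A : EtCoh.Ab X) {B : EtFppf.AbF X} (i : (EtFppf.aPull X).obj A ≅ B) :
    HomExt.homCx R B ≅ HomExt.homCx (resolution R h) A :=
  haveI : (EtFppf.aPull X).Additive := (EtFppf.aAdj X).left_adjoint_additive
  HomologicalComplex.Hom.isoOfComponents
    (fun n => AddEquiv.toAddCommGrpIso
      (AddEquiv.mk' (i.homFromEquiv.symm.trans ((EtFppf.aAdj X).homEquiv A (R.cocomplex.X n)))
        fun (f g : B ⟶ R.cocomplex.X n) => by
          change (EtFppf.aAdj X).homEquiv _ _ (i.hom ≫ (f + g)) =
            (EtFppf.aAdj X).homEquiv _ _ (i.hom ≫ f) + (EtFppf.aAdj X).homEquiv _ _ (i.hom ≫ g)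
          rw [Preadditive.comp_add]
          exact (EtFppf.aAdj X).homAddEquiv_add _ _ _ _))
    fun n m _ => by
      ext f
      change (EtFppf.aAdj X).homEquiv _ _ (i.hom ≫ f) ≫ (EtFppf.aPush X).map (R.cocomplex.d n m) =
        (EtFppf.aAdj X).homEquiv _ _ (i.hom ≫ f ≫ R.cocomplex.d n m)
      rw [← Adjunction.homEquiv_naturality_right, Category.assoc]

include h in
/-- Fppf cohomology is the etale cohomology of the restriction. -/
theorem nonempty_H (q : ℕ) :
    Nonempty (EtCoh.H X ((EtFppf.aPush X).obj G) q ≃+ EtFppf.HF X G q) :=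
  ⟨((HomExt.homologyIso (resolution R h) q).symm ≪≫
    (HomologicalComplex.homologyFunctor _ _ q).mapIso
      (cxIso R h _ ((BigEt.Compare.pullConstIso.{u + 1} (EtFppf.a X) X.smallEtaleTopology (QuotSh.J Scheme.fppfPrecoverage X)
        (EtCore.topIsTerminal X) Over.mkIdTerminal).app
          (AddCommGrpCat.of (ULift.{u + 1} ℤ)))).symm ≪≫
    HomExt.homologyIso R q).addCommGroupIsoToAddEquiv⟩

end Groth.Agent.Lib.FppfGm.Coh
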