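import Groth.Agent.Lib.FppfGm.Amitsur
import Mathlib.AlgebraicGeometry.AffineScheme
import Mathlib.AlgebraicGeometry.GammaSpecAdjunction

/-!
# Points of the iterated tensor powers
-/

set_option autoImplicit false

universe u

open TensorProduct CategoryTheory AlgebraicGeometry Opposite

noncomputable section

namespace Groth.Agent.Lib.FppfGm.Points

open Groth.Agent.Lib.FppfGm.Amitsur

section algebra

variable {R B : Type u} [CommRing R] [CommRing B] [Algebra R B]
  {C D : Type u} [CommRing C] [CommRing D] [Algebra R C] [Algebra R D]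
  {G G' : Type u} [CommRing G] [CommRing G'] [Algebra R G] [Algebra R G']

/-- The map out of a tensor power given by a tuple. -/
def cl (ψ : C →ₐ[R] G) : (n : ℕ) → (Fin n → (B →ₐ[R] G)) → (Pw R B C n →ₐ[R] G)
  | 0, _ => ψ
  | n + 1, l => Algebra.TensorProduct.lift (l 0) (cl ψ n fun a => l a.succ)
      fun _ _ => Commute.all _ _

theorem cl_tmul (ψ : C →ₐ[R] G) (n : ℕ) (l : Fin (n + 1) → (B →ₐ[R] G)) (b : B) (x : Pw R B C n) :
    cl ψ (n + 1) l (b ⊗ₜ[R] x) = l 0 b * cl ψ n (fun a => l a.succ) x :=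
  Algebra.TensorProduct.lift_tmul _ _ _ b x

theorem cl_comp (ψ : C →ₐ[R] G) (g : G →ₐ[R] G') : ∀ (n : ℕ) (l : Fin n → (B →ₐ[R] G)),
    g.comp (cl ψ n l) = cl (g.comp ψ) n fun a => g.comp (l a)
  | 0, _ => rfl
  | n + 1, l => by
    refine Algebra.TensorProduct.ext' fun b x => ?_
    refine (congrArg g (cl_tmul ψ n l b x)).trans ((map_mul g _ _).trans ?_)
    rw [cl_tmul, ← cl_comp ψ g n]
    rfl

theorem cl_mapP (ψ : D →ₐ[R] G) (f : C →ₐ[R] D) : ∀ (n : ℕ) (l : Fin n → (B →ₐ[R] G)),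
    (cl ψ n l).comp (mapP B f n) = cl (ψ.comp f) n l
  | 0, _ => rfl
  | n + 1, l => by
    refine Algebra.TensorProduct.ext' fun b x => ?_
    refine (congrArg (cl ψ (n + 1) l)
      (Algebra.TensorProduct.map_tmul (AlgHom.id R B) (mapP B f n) b x)).trans ?_
    rw [cl_tmul, cl_tmul, ← cl_mapP ψ f n]
    rfl

theorem cl_δ (ψ : C →ₐ[R] G) : ∀ (n : ℕ) (l : Fin (n + 1) → (B →ₐ[R] G)) (i : Fin (n + 1)),
    (cl ψ (n + 1) l).comp (δ R B C n i) = cl ψ n (l ∘ i.succAbove)
  | 0, l, i => by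
    obtain rfl : i = 0 := Fin.ext (Nat.lt_one_iff.1 i.isLt)
    rw [δ_zero]
    exact Algebra.TensorProduct.lift_comp_includeRight _ _ fun _ _ => Commute.all _ _
  | n + 1, l, i => by
    induction i using Fin.cases with
    | zero =>
      rw [δ_zero]
      refine (Algebra.TensorProduct.lift_comp_includeRight _ _ fun _ _ => Commute.all _ _).trans ?_
      rfl
    | succ j =>
      refine Algebra.TensorProduct.ext' fun b x => ?_
      rw [δ_succ]
      refine (congrArg (cl ψ (n + 2) l) (Algebra.TensorProduct.map_tmul (AlgHom.id R B)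
        (δ R B C n j) b x)).trans ?_
      rw [cl_tmul, cl_tmul]
      refine congrArg₂ (· * ·) ?_ ?_
      · exact congrArg (fun a => l a b) (Fin.succ_succAbove_zero j).symm
      · refine (AlgHom.congr_fun (cl_δ ψ n (fun a => l a.succ) j) x).trans ?_
        refine congrArg (fun l' => cl ψ n l' x) (funext fun a => ?_)
        exact congrArg l (Fin.succ_succAbove_succ j a).symm

variable (R B)

/-- The tautological tuple. -/
def taut : (n : ℕ) → Fin n → (B →ₐ[R] Pw R B R n)
  | 0, a => a.elim0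
  | n + 1, a => Fin.cases Algebra.TensorProduct.includeLeft
      (fun a => Algebra.TensorProduct.includeRight.comp (taut n a)) a

theorem cl_taut : ∀ n : ℕ, cl (Algebra.ofId R (Pw R B R n)) n (taut R B n) = AlgHom.id R _
  | 0 => Subsingleton.elim _ _
  | n + 1 => by
    refine Algebra.TensorProduct.ext' fun b x => ?_
    refine (cl_tmul _ n _ b x).trans ?_
    have e : (cl (Algebra.ofId R (Pw R B R (n + 1))) n fun a => taut R B (n + 1) a.succ) =
        Algebra.TensorProduct.includeRight.comp (cl (Algebra.ofId R (Pw R B R n)) n (taut R B n)) := by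
      rw [cl_comp, Subsingleton.elim (AlgHom.comp _ (Algebra.ofId R _)) (Algebra.ofId R _)]
      rfl
    rw [e, cl_taut n]
    change (b ⊗ₜ[R] (1 : Pw R B R n)) * ((1 : B) ⊗ₜ[R] x) = b ⊗ₜ[R] x
    rw [Algebra.TensorProduct.tmul_mul_tmul, mul_one, one_mul]

end algebra

/-! ### Functions on schemes -/

/-- The ring map of a morphism to an affine scheme. -/
def ringHomOf {A : CommRingCat.{u}} {Z : Scheme.{u}} (g : Z ⟶ Spec A) : A →+* Γ(Z, ⊤) :=
  ((Scheme.ΓSpecIso A).inv ≫ g.appTop).hom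

theorem ringHomOf_comp {A : CommRingCat.{u}} {Z Z' : Scheme.{u}} (h : Z' ⟶ Z) (g : Z ⟶ Spec A) :
    ringHomOf (h ≫ g) = h.appTop.hom.comp (ringHomOf g) := by
  simp only [ringHomOf, Scheme.Hom.comp_appTop, CommRingCat.hom_comp]
  rfl

theorem ringHomOf_specMap {A A' : CommRingCat.{u}} {Z : Scheme.{u}} (g : Z ⟶ Spec A') (φ : A ⟶ A') :
    ringHomOf (g ≫ Spec.map φ) = (ringHomOf g).comp φ.hom := by
  unfold ringHomOf
  rw [Scheme.Hom.comp_appTop, ← Category.assoc, ← Scheme.ΓSpecIso_inv_naturality, Category.assoc]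
  rfl

theorem ringHomOf_id (A : CommRingCat.{u}) : ringHomOf (𝟙 (Spec A)) = (Scheme.ΓSpecIso A).inv.hom := by
  simp [ringHomOf]

theorem ringHomOf_toSpecΓ {A : CommRingCat.{u}} (Z : Scheme.{u}) (φ : A ⟶ Γ(Z, ⊤)) :
    ringHomOf (Z.toSpecΓ ≫ Spec.map φ) = φ.hom := by
  rw [ringHomOf_specMap]
  simp [ringHomOf]

theorem eq_of_ringHomOf {A : CommRingCat.{u}} {Z : Scheme.{u}} {g g' : Z ⟶ Spec A}
    (h : ringHomOf g = ringHomOf g') : g = g' := by
  refine ext_of_isAffine ?_
  have := CommRingCat.hom_ext h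
  exact (cancel_epi (Scheme.ΓSpecIso A).inv).1 this

variable {R : Type u} [CommRing R]

/-- Functions on a scheme over an affine scheme, as an algebra. -/
def ga {Z : Scheme.{u}} (t : Z ⟶ Spec (CommRingCat.of R)) : CommAlgCat.{u} R :=
  letI : Algebra R Γ(Z, ⊤) := (ringHomOf t).toAlgebra
  CommAlgCat.of R Γ(Z, ⊤)

/-- Restriction of functions. -/
def resA {Z Z' : Scheme.{u}} (h : Z' ⟶ Z) {t : Z ⟶ Spec (CommRingCat.of R)}
    {t' : Z' ⟶ Spec (CommRingCat.of R)} (e : h ≫ t = t') : ga t →ₐ[R] ga t' :=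
  { h.appTop.hom with
    commutes' := fun r => (RingHom.congr_fun (ringHomOf_comp h t) r).symm.trans
      (congrArg (fun k => ringHomOf k r) e) }

theorem ringHomOf_algebraMap {A : Type u} [CommRing A] [Algebra R A] {Z : Scheme.{u}}
    (l : Z ⟶ Spec (CommRingCat.of A)) (r : R) :
    ringHomOf l (algebraMap R A r) =
      ringHomOf (l ≫ Spec.map (CommRingCat.ofHom (algebraMap R A))) r := by
  rw [ringHomOf_specMap]
  rfl

/-- The algebra map of a point of an affine scheme. -/
def liftA {A : Type u} [CommRing A] [Algebra R A] {Z : Scheme.{u}}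
    {t : Z ⟶ Spec (CommRingCat.of R)} (l : Z ⟶ Spec (CommRingCat.of A))
    (e : l ≫ Spec.map (CommRingCat.ofHom (algebraMap R A)) = t) : A →ₐ[R] ga t :=
  { ringHomOf l with
    commutes' := fun r => (ringHomOf_algebraMap l r).trans
      (congrArg (fun k => ringHomOf k r) e) }

theorem resA_liftA {A : Type u} [CommRing A] [Algebra R A] {Z Z' : Scheme.{u}} (h : Z' ⟶ Z)
    {t : Z ⟶ Spec (CommRingCat.of R)} {t' : Z' ⟶ Spec (CommRingCat.of R)}
    (l : Z ⟶ Spec (CommRingCat.of A))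
    (e : l ≫ Spec.map (CommRingCat.ofHom (algebraMap R A)) = t) (e' : h ≫ t = t') :
    (resA h e').comp (liftA l e) =
      liftA (h ≫ l) ((Category.assoc _ _ _).trans ((congrArg (h ≫ ·) e).trans e')) :=
  AlgHom.ext fun a => (RingHom.congr_fun (ringHomOf_comp h l) a).symm

end Groth.Agent.Lib.FppfGm.Points
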